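import Mathlib

/-!
# Complexes of flat modules over Artinian local rings with exact reduction
-/

set_option autoImplicit false
universe u

open TensorProduct IsLocalRing

namespace Groth.ArtComplex

variable {A : Type u} [CommRing A] [IsLocalRing A] [IsArtinianRing A]
variable {X P P' : Type u} [AddCommGroup X] [Module A X] [AddCommGroup P] [Module A P] [AddCommGroup P'] [Module A P']

theorem eq_top_of_sup_smul_eq_top {M : Type u} [AddCommGroup M] [Module A M] {N : Submodule A M}
    (h : (⊤ : Submodule A M) ≤ N ⊔ maximalIdeal A • ⊤) : N = ⊤ := by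
  have hpow : ∀ n : ℕ, (⊤ : Submodule A M) ≤ N ⊔ maximalIdeal A ^ n • ⊤ := by
    intro n
    induction n with
    | zero => simp
    | succ n ih =>
      calc (⊤ : Submodule A M) ≤ N ⊔ maximalIdeal A ^ n • ⊤ := ih
        _ ≤ N ⊔ maximalIdeal A ^ n • (N ⊔ maximalIdeal A • ⊤) :=
            sup_le_sup_left (Submodule.smul_mono le_rfl h) _
        _ ≤ N ⊔ maximalIdeal A ^ (n + 1) • ⊤ := by
            rw [Submodule.smul_sup, ← Submodule.smul_assoc, smul_eq_mul, ← pow_succ, ← sup_assoc]
            exact sup_le_sup_right (sup_le le_rfl Submodule.smul_le_right) _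
  obtain ⟨n, hn⟩ := IsArtinianRing.isNilpotent_jacobson_bot (R := A)
  rw [IsLocalRing.jacobson_eq_maximalIdeal ⊥ bot_ne_top] at hn
  have h1 := hpow n
  rwa [hn, Submodule.zero_eq_bot, Submodule.bot_smul, sup_bot_eq, top_le_iff] at h1

theorem eq_top_of_one_tmul {M : Type u} [AddCommGroup M] [Module A M] {N : Submodule A M}
    (h : ∀ x : M, (1 : ResidueField A) ⊗ₜ[A] x ∈ N.map (TensorProduct.mk A (ResidueField A) M 1)) : N = ⊤ := by
  refine eq_top_of_sup_smul_eq_top ?_
  rw [← LinearMap.ker_tensorProductMk, ← Submodule.comap_map_eq]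
  exact fun x _ => h x

/-- A complex `X → P → P'` with `P`, `P'` flat whose reduction is exact in the middle: its middle is exact with
flat cycles and its last cokernel is flat. -/
theorem middle [Module.Flat A P] [Module.Flat A P'] (f : X →ₗ[A] P) (g : P →ₗ[A] P') (hgf : g ∘ₗ f = 0)
    (h : Function.Exact (f.lTensor (ResidueField A)) (g.lTensor (ResidueField A))) :
    LinearMap.range f = LinearMap.ker g ∧ Module.Projective A (LinearMap.ker g) ∧
      Module.Flat A (P' ⧸ LinearMap.range g) := by
  classical
  let V := LinearMap.range (g.baseChange (ResidueField A))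
  let w := Module.Basis.ofVectorSpace (ResidueField A) V
  obtain ⟨V', hV'⟩ := Submodule.exists_isCompl V
  let w' := Module.Basis.ofVectorSpace (ResidueField A) V'
  let e := Submodule.prodEquivOfIsCompl V V' hV'
  let B := (w.prod w').map e
  have hsP : ∀ z : (ResidueField A) ⊗[A] P, ∃ x, (1 : (ResidueField A)) ⊗ₜ[A] x = z := TensorProduct.mk_surjective A P (ResidueField A) Ideal.Quotient.mk_surjective
  have hsP' : ∀ z : (ResidueField A) ⊗[A] P', ∃ x, (1 : (ResidueField A)) ⊗ₜ[A] x = z :=
    TensorProduct.mk_surjective A P' (ResidueField A) Ideal.Quotient.mk_surjective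
  choose z hz using fun i => (w i).2
  choose v hv using fun i => hsP (z i)
  choose y hy using fun j => hsP' (w' j : (ResidueField A) ⊗[A] P')
  let u : _ ⊕ _ → P' := Sum.elim (fun i => g (v i)) y
  have hu : TensorProduct.mk A (ResidueField A) P' 1 ∘ u = B := by
    funext s
    rcases s with i | j
    · show (1 : (ResidueField A)) ⊗ₜ[A] g (v i) = B (.inl i)
      rw [← LinearMap.baseChange_tmul, hv, hz]
      simp [B, e]
    · show (1 : (ResidueField A)) ⊗ₜ[A] y j = B (.inr j)
      rw [hy]
      simp [B, e]
  have hli : LinearIndependent A u := Module.IsLocalRing.linearIndependent_of_flat u (by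
    convert! B.linearIndependent using 1)
  have hspan : Submodule.span A (Set.range u) = ⊤ := eq_top_of_one_tmul fun x => by
    rw [← Submodule.span_image, ← Set.range_comp]
    have h1 : Submodule.span A (Set.range (TensorProduct.mk A (ResidueField A) P' 1 ∘ u)) = ⊤ := by
      rw [hu, ← Submodule.restrictScalars_span A (ResidueField A) Ideal.Quotient.mk_surjective, B.span_eq]
      rfl
    rw [h1]; trivial
  let b := Module.Basis.mk hli hspan.ge
  let r : P' →ₗ[A] P := b.constr A (Sum.elim v 0)
  have hrv : ∀ i, r (g (v i)) = v i := fun i => by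
    have : g (v i) = b (.inl i) := (Module.Basis.mk_apply hli hspan.ge (Sum.inl i)).symm
    rw [this, Module.Basis.constr_basis]
    rfl
  have hgen : LinearMap.range f ⊔ Submodule.span A (Set.range v) = ⊤ := eq_top_of_one_tmul fun x => by
    have hmem : (g.baseChange (ResidueField A)) ((1 : (ResidueField A)) ⊗ₜ[A] x) ∈ V := ⟨_, rfl⟩
    let a := w.repr ⟨_, hmem⟩
    have hsum : (g.baseChange (ResidueField A)) ((1 : (ResidueField A)) ⊗ₜ[A] x - Finsupp.linearCombination (ResidueField A) (fun i => (1 : (ResidueField A)) ⊗ₜ[A] v i) a) = 0 := by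
      rw [map_sub, sub_eq_zero, Finsupp.apply_linearCombination]
      have hw : (g.baseChange (ResidueField A)) ∘ (fun i => (1 : (ResidueField A)) ⊗ₜ[A] v i) = V.subtype ∘ w := by
        funext i
        show g.baseChange (ResidueField A) ((1 : (ResidueField A)) ⊗ₜ[A] v i) = _
        rw [hv, hz]; rfl
      rw [hw, ← Finsupp.apply_linearCombination, w.linearCombination_repr]
      rfl
    obtain ⟨q, hq⟩ := (h _).1 hsum
    obtain ⟨p, hp⟩ := TensorProduct.mk_surjective A X (ResidueField A) Ideal.Quotient.mk_surjective q
    have hq' : (1 : (ResidueField A)) ⊗ₜ[A] x = (1 : (ResidueField A)) ⊗ₜ[A] f p +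
        Finsupp.linearCombination (ResidueField A) (fun i => (1 : (ResidueField A)) ⊗ₜ[A] v i) a := by
      rw [← hp] at hq
      rw [← sub_eq_iff_eq_add, ← hq]
      rfl
    rw [hq']
    refine add_mem ⟨f p, Submodule.mem_sup_left ⟨p, rfl⟩, rfl⟩ ?_
    refine Submodule.map_mono le_sup_right ?_
    rw [← Submodule.span_image, ← Set.range_comp]
    have hm0 : Finsupp.linearCombination (ResidueField A) (fun i => (1 : ResidueField A) ⊗ₜ[A] v i) a ∈
        Submodule.span (ResidueField A) (Set.range fun i => (1 : ResidueField A) ⊗ₜ[A] v i) := by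
      rw [← Finsupp.range_linearCombination]; exact LinearMap.mem_range_self _ a
    exact (Submodule.restrictScalars_span A (ResidueField A) Ideal.Quotient.mk_surjective _).le hm0
  have hgrg : ∀ x, g (r (g x)) = g x := by
    have h2 : (⊤ : Submodule A P) ≤ LinearMap.eqLocus (g ∘ₗ r ∘ₗ g) g := by
      rw [← hgen, sup_le_iff, Submodule.span_le]
      constructor
      · rintro _ ⟨p, rfl⟩
        have h0 : g (f p) = 0 := LinearMap.congr_fun hgf p
        show g (r (g (f p))) = g (f p)
        rw [h0, map_zero, map_zero]
      · rintro _ ⟨i, rfl⟩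
        show g (r (g (v i))) = g (v i)
        rw [hrv]
    exact fun x => h2 (Submodule.mem_top (x := x))
  have hP'free : Module.Free A P' := .of_basis b
  have hPfree : Module.Free A P := by
    let c := Module.Free.chooseBasis (ResidueField A) ((ResidueField A) ⊗[A] P)
    choose d hd using fun i => hsP (c i)
    refine .of_basis (.mk (v := d) (Module.IsLocalRing.linearIndependent_of_flat d (by
      convert! c.linearIndependent using 1; exact funext hd)) (top_le_iff.2 (eq_top_of_one_tmul fun x => ?_)))
    rw [← Submodule.span_image, ← Set.range_comp]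
    have h1 : Submodule.span A (Set.range (TensorProduct.mk A (ResidueField A) P 1 ∘ d)) = ⊤ := by
      rw [show TensorProduct.mk A (ResidueField A) P 1 ∘ d = c from funext hd,
        ← Submodule.restrictScalars_span A (ResidueField A) Ideal.Quotient.mk_surjective, c.span_eq]
      rfl
    rw [h1]; trivial
  refine ⟨le_antisymm ?_ ?_, ?_, ?_⟩
  · rintro _ ⟨p, rfl⟩
    exact LinearMap.congr_fun hgf p
  · intro x hx
    obtain ⟨a, ha, c, hc, rfl⟩ := Submodule.mem_sup.1 (hgen.ge (Submodule.mem_top (x := x)))
    obtain ⟨p, rfl⟩ := ha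
    have hgc : g c = 0 := by
      have h0 : g (f p) = 0 := LinearMap.congr_fun hgf p
      have hx' : g (f p + c) = 0 := hx
      rwa [map_add, h0, zero_add] at hx'
    have hrc : r (g c) = c := by
      have h2 : Submodule.span A (Set.range v) ≤ LinearMap.eqLocus (r ∘ₗ g) LinearMap.id := by
        rw [Submodule.span_le]; rintro _ ⟨i, rfl⟩; exact hrv i
      exact h2 hc
    rw [hgc, map_zero] at hrc
    rw [← hrc, add_zero]
    exact LinearMap.mem_range_self f p
  · have hmem : ∀ x, (LinearMap.id - r ∘ₗ g : P →ₗ[A] P) x ∈ LinearMap.ker g := fun x => by simp [hgrg]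
    refine Module.Projective.of_split (LinearMap.ker g).subtype
      ((LinearMap.id - r ∘ₗ g).codRestrict (LinearMap.ker g) hmem) (LinearMap.ext fun (x : LinearMap.ker g) => Subtype.ext ?_)
    have hx : g (x : P) = 0 := x.2
    simp [hx]
  · have : Module.Projective A (P' ⧸ LinearMap.range g) := by
      refine Module.Projective.of_split (Submodule.liftQ (LinearMap.range g) (LinearMap.id - g ∘ₗ r) ?_)
        (LinearMap.range g).mkQ (Submodule.linearMap_qext _ (LinearMap.ext fun x => ?_))
      · rintro _ ⟨p, rfl⟩
        simp [hgrg]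
      · simp only [LinearMap.comp_apply, Submodule.mkQ_apply, Submodule.liftQ_apply, LinearMap.sub_apply,
          LinearMap.id_apply]
        rw [Submodule.Quotient.eq]
        exact ⟨-r x, by simp⟩
    infer_instance

/-- A module mapping onto a projective module, injectively on reductions, maps isomorphically. -/
theorem injective_of_projective_of_lTensor {K : Type u} [AddCommGroup K] [Module A K] [Module.Projective A K]
    (f : X →ₗ[A] K) (hf : Function.Surjective f) (hinj : Function.Injective (f.lTensor (ResidueField A))) :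
    Function.Injective f := by
  obtain ⟨s, hs⟩ := Module.projective_lifting_property f LinearMap.id hf
  let π : X →ₗ[A] LinearMap.ker f := (LinearMap.id - s ∘ₗ f).codRestrict _ fun x => by
    have := LinearMap.congr_fun hs (f x)
    simp only [LinearMap.comp_apply, LinearMap.id_apply] at this
    simp [this]
  have h0 : (⊥ : Submodule A (LinearMap.ker f)) = ⊤ := eq_top_of_one_tmul fun n => by
    have h1 : (1 : ResidueField A) ⊗ₜ[A] (n : X) = 0 := hinj (by
      rw [LinearMap.lTensor_tmul, map_zero, show f n = 0 from n.2, tmul_zero])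
    have h2 := congrArg (π.lTensor (ResidueField A)) h1
    have hn : π n = n := Subtype.ext (by simp [π])
    rw [LinearMap.lTensor_tmul, hn, map_zero] at h2
    rw [h2]
    exact zero_mem _
  rw [← LinearMap.ker_eq_bot, eq_bot_iff]
  intro x hx
  have := h0.ge (Submodule.mem_top (x := (⟨x, hx⟩ : LinearMap.ker f)))
  rw [Submodule.mem_bot] at this
  exact (Submodule.mem_bot A).2 (congrArg Subtype.val this)

end Groth.ArtComplex
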